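import Cfsg.Agent.H488.S4844.Co1Seven
import Cfsg.Agent.H843.IMC.Co1D
import Cfsg.Agent.H710.PSq.Crit
import Cfsg.Agent.H696.PSq.Defs

/-!
# The row `Co1` of S4844 (helper488)

`p = 3` : degree `80730`; `p = 5` : degree `17250`; `p = 7` : defect zero (`Co1Seven.lean`).
-/

set_option autoImplicit false

namespace Cfsg.Agent.H488.PSq

open Cfsg

universe u

/-- **The row `Co1`.** -/
theorem sq_co1 {S : Type u} [Group S] [Finite S] (h : Cfsg.Spor.IsoCo1 S) (_hs : IsSimpleGroup S) {p : ℕ}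
    [hp : Fact p.Prime] (hp2 : p ≠ 2) (hd : p ^ 2 ∣ Nat.card S) : Cfsg.Agent.H33.IM (p ^ 2) S := by
  obtain ⟨e⟩ := h
  have hcard : Nat.card S = 4157776806543360000 :=
    (Nat.card_congr e.toEquiv).trans Cfsg.Agent.S0399.result.2
  have hfin : Finite Spor.Co1 := Nat.finite_of_card_ne_zero (by rw [Cfsg.Agent.S0399.result.2]; norm_num)
  have hpr := hp.out
  have key : p = 3 ∨ p = 5 ∨ p = 7 := by
    rw [hcard] at hd
    have h1 : p ∣ 2 ^ 21 * 3 ^ 9 * 5 ^ 4 * 7 ^ 2 * 11 ^ 1 * 13 ^ 1 * 23 ^ 1 := by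
      norm_num
      exact (dvd_pow_self p two_ne_zero).trans hd
    have two' : ∀ {q n : ℕ}, q.Prime → p ∣ q ^ n → p = q := fun hq h =>
      (Nat.prime_dvd_prime_iff_eq hpr hq).1 (hpr.dvd_of_dvd_pow h)
    rcases hpr.dvd_mul.1 h1 with h5 | h5
    · rcases hpr.dvd_mul.1 h5 with h5 | h5
      · rcases hpr.dvd_mul.1 h5 with h5 | h5
        · rcases hpr.dvd_mul.1 h5 with h5 | h5
          · rcases hpr.dvd_mul.1 h5 with h5 | h5
            · rcases hpr.dvd_mul.1 h5 with h5 | h5
              · exact absurd (two' (by norm_num) h5) hp2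
              · exact Or.inl (two' (by norm_num) h5)
            · exact Or.inr (Or.inl (two' (by norm_num) h5))
          · exact Or.inr (Or.inr (two' (by norm_num) h5))
        · have := two' (by norm_num) h5
          subst this
          revert hd; norm_num
      · have := two' (by norm_num) h5
        subst this
        revert hd; norm_num
    · have := two' (by norm_num) h5
      subst this
      revert hd; norm_num
  refine H33.IM.of_equiv e ?_
  obtain ⟨⟨χ, hχ⟩, ⟨ψ, hψ⟩⟩ := Cfsg.Agent.H843.IMC.Co1D.hasDeg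
  rcases key with rfl | rfl | rfl
  · exact ⟨ψ, by rw [hψ]; norm_num⟩
  · exact ⟨χ, by rw [hχ]; norm_num⟩
  · refine H710.PSq.im_of_hasDZ Co1Seven.hasDZ ?_ (by norm_num)
    rw [Cfsg.Agent.S0399.result.2]
    norm_num

end Cfsg.Agent.H488.PSq
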