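import Cfsg.Agent.H488.S4844.Struct
import Cfsg.Agent.H546.MElevenCo
import Cfsg.Agent.CTwoTab.Co1
import Cfsg.Agent.H419.LeechFix
import Cfsg.Agent.BpSpor.CoTwoFive
import Cfsg.Agent.CoOneType.ClosingCo1
import Cfsg.Agent.CoOneType.InvMain
import Cfsg.Agent.S0382
import Cfsg.Agent.S0399
import Cfsg.Agent.H729.M24Deg

/-!
# `Co1` has a character of 7-defect zero (helper488, S4844)

The class `2C` (dodecads): `7 ∤ |C(t)|`, `t` inverts an element `y` of order 11 and `|C(y)| = 66 < 77`.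
-/

set_option autoImplicit false

namespace Cfsg.Agent.H488.PSq.Co1Seven

open Cfsg Subgroup
open scoped Pointwise
open Cfsg.Agent.SporadicA.GolayBase Cfsg.Agent.SporadicA.GolayPerm
open Cfsg.Agent.SporadicStructure.M24El
open Cfsg.Agent.SporadicA.Co0Mono
open Cfsg.Agent.SporadicA.Co1Simple (allOne exists_sign_perm)
open Cfsg.Agent.CoOneType.SignFacts (wt sup wt_add_allOne sign_allOne_comm sup_add_allOne)
open Cfsg.Agent.CoOneType.ClosingFacts (mk mk_mul mk_inv exists_mk mk_eq_one mk_eq isConj_mk isConj_dvd)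
open Cfsg.Agent.KFacts.Co1D4
open Cfsg.Agent.Co2Type.Mono (tr8 tr8_conj)
open Cfsg.Agent.CTwoTab.Co1 (conj_sign)
open Cfsg.Agent.H665.NoPQ (HasDZ)

/-- powers of a monomial element -/
theorem pow_eq (a : golayCode) (σ : M24) (n : ℕ) :
    ∃ b : golayCode, (signCo0 a * permCo0 σ) ^ n = signCo0 b * permCo0 (σ ^ n) := by
  induction n with
  | zero => exact ⟨0, by rw [pow_zero, pow_zero, signCo0_zero, map_one, one_mul]⟩
  | succ n ih =>
    obtain ⟨b, hb⟩ := ih
    refine ⟨b + wordPerm (σ ^ n) a, ?_⟩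
    rw [pow_succ, hb, signCo0_add, pow_succ σ n, map_mul]
    calc signCo0 b * permCo0 (σ ^ n) * (signCo0 a * permCo0 σ) =
        signCo0 b * (permCo0 (σ ^ n) * signCo0 a) * permCo0 σ := by group
      _ = signCo0 b * (signCo0 (wordPerm (σ ^ n) a) * permCo0 (σ ^ n)) * permCo0 σ := by rw [perm_mul_sign]
      _ = _ := by group

theorem perm_of_mk_one {b : golayCode} {σ : M24} (h : mk (signCo0 b * permCo0 σ) = 1) : σ = 1 := by
  rw [mk_eq_one] at h
  rcases h with h | h
  · have h1 : signCo0 b * permCo0 σ = signCo0 0 * permCo0 1 := by rw [h, signCo0_zero, map_one, one_mul]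
    exact (Cfsg.Agent.CoOneType.InvMain.sp_inj h1).2
  · have h1 : signCo0 b * permCo0 σ = signCo0 allOne * permCo0 1 := by rw [h, map_one, mul_one]
    exact (Cfsg.Agent.CoOneType.InvMain.sp_inj h1).2

/-- The order of the centralizer of a dodecad involution is not divisible by 7. -/
theorem not_seven {d : golayCode} (hd : wt d = 12) :
    ¬ 7 ∣ Nat.card (centralizer ({mk (signCo0 d)} : Set Spor.Co1)) := by
  intro h
  have hfin : Finite Spor.Co1 := Nat.finite_of_card_ne_zero (by rw [Cfsg.Agent.S0399.result.2]; norm_num)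
  have : Fact (Nat.Prime 7) := ⟨by norm_num⟩
  obtain ⟨⟨k, hk⟩, ho⟩ := exists_prime_orderOf_dvd_card' 7 h
  have ho' : orderOf k = 7 := by
    rw [← ho]
    exact (Subgroup.orderOf_coe (⟨k, hk⟩ : centralizer ({mk (signCo0 d)} : Set Spor.Co1))).symm.symm
  rw [mem_centralizer_singleton_iff] at hk
  obtain ⟨g, rfl⟩ := exists_mk k
  obtain ⟨a, σ, rfl⟩ := exists_sign_perm (DodBal.mem_N hd hk)
  have h1 := conj_sign a d σ
  rw [hk, mul_inv_cancel_right] at h1
  -- the order of `σ`
  have h7 : σ ^ 7 = 1 := by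
    obtain ⟨b, hb⟩ := pow_eq a σ 7
    apply perm_of_mk_one (b := b)
    rw [← hb]
    show mk (signCo0 a * permCo0 σ) ^ 7 = 1
    rw [← ho', pow_orderOf_eq_one]
  have hs1 : σ ≠ 1 := by
    rintro rfl
    have h2 : mk (signCo0 a * permCo0 1) ^ 2 = 1 := by
      rw [pow_two, ← mk_mul, map_one, mul_one, signCo0_mul_self]; rfl
    have h3 := orderOf_dvd_of_pow_eq_one h2
    rw [ho'] at h3
    omega
  -- `σ ^ 2` fixes the dodecad
  have h2 : (σ ^ 2) • sup d = sup d := by
    have h3 : σ • sup d = sup d ∨ σ • sup d = (sup d)ᶜ := by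
      rw [← Cfsg.Agent.CoOneType.CoOneE.sup_wordPerm, ← sup_add_allOne]
      rcases DodBal.mk_sign_eq h1.symm with h8 | h8
      · left; rw [h8]
      · right; rw [h8]
    rw [pow_two, mul_smul]
    rcases h3 with h3 | h3
    · rw [h3, h3]
    · rw [h3]
      have h4 : σ • (sup d)ᶜ = (σ • sup d)ᶜ := by
        ext i
        rw [Finset.mem_compl, ← Finset.inv_smul_mem_iff, Finset.mem_compl, Finset.inv_smul_mem_iff]
      rw [h4, h3, compl_compl]
  have hd' : sup d ∈ dodecads := ⟨Cfsg.Agent.CoOneType.SignFacts.sup_mem d, hd⟩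
  have hc := Cfsg.Agent.S0382.result (sup d) hd'
  have h5 : orderOf (σ ^ 2) = 7 := by
    apply orderOf_eq_prime
    · rw [← pow_mul, mul_comm, pow_mul, h7, one_pow]
    · intro h6
      apply hs1
      have h8 : σ ^ 7 = σ ^ 2 * σ ^ 2 * σ ^ 2 * σ := by group
      rw [h7, h6, one_mul, one_mul, one_mul] at h8
      exact h8.symm
  have h6 := orderOf_dvd_natCard (⟨σ ^ 2, h2⟩ : MulAction.stabilizer M24 (sup d))
  rw [← Subgroup.orderOf_coe, hc] at h6
  change orderOf (σ ^ 2) ∣ 95040 at h6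
  rw [h5] at h6
  omega

/-! ### the involution of `M24` -/

open Cfsg.Agent.H729.MData (c11)

/-- a fixed point free involution inverting `c11` -/
def cT : ℕ := 1795248432537898728475572672376535

theorem ok11 : ok c11 = true := by decide +kernel
theorem okT : ok cT = true := by decide +kernel

theorem TT : el cT * el cT = 1 := by
  rw [← el_pcomp okT okT, ← el_idP]
  congr 1

theorem TyT : el cT * el c11 * el cT * el c11 = 1 := by
  rw [← el_pcomp okT ok11, ← el_pcomp (ok_pcomp okT ok11) okT, ← el_pcomp (ok_pcomp (ok_pcomp okT ok11) okT) ok11,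
    ← el_idP]
  congr 1

theorem fixT : Nat.card (MulAction.fixedBy GolayPt (el cT)) = 0 := by
  have h1 : IsEmpty (MulAction.fixedBy GolayPt (el cT)) := by
    refine ⟨fun ⟨p, hp⟩ => ?_⟩
    have h2 : el cT • p = p := hp
    have h3 := congrArg idx h2
    rw [idx_el_smul okT] at h3
    have h4 : ∀ i < 24, papp cT i ≠ i := by decide +kernel
    exact h4 _ (idx_lt p) h3
  rw [Nat.card_of_isEmpty]

/-- the involution -/
noncomputable def t : Spor.Co1 := mk (permCo0 (el cT))

/-- the element of order 11 -/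
noncomputable def y : Spor.Co1 := mk (permCo0 (el c11))

theorem tt : t * t = 1 := by
  show mk (permCo0 (el cT) * permCo0 (el cT)) = 1
  rw [← map_mul, TT, map_one]; rfl

theorem tyt : t * y * t⁻¹ = y⁻¹ := by
  have h1 : t⁻¹ = t := inv_eq_of_mul_eq_one_left tt
  rw [h1, eq_inv_iff_mul_eq_one]
  show mk (permCo0 (el cT) * permCo0 (el c11) * permCo0 (el cT) * permCo0 (el c11)) = 1
  rw [← map_mul, ← map_mul, ← map_mul, TyT, map_one]; rfl

theorem order_y : orderOf y = 11 := by
  have : Fact (Nat.Prime 11) := ⟨by norm_num⟩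
  apply orderOf_eq_prime
  · show Cfsg.Agent.CoOneType.ClosingFacts.mk (permCo0 (el c11) ^ 11) = 1
    rw [← map_pow, ← Cfsg.Agent.H729.M24Deg.o11, pow_orderOf_eq_one, map_one]; rfl
  · intro h
    have h1 : mk (signCo0 0 * permCo0 (el c11)) = 1 := by
      rw [signCo0_zero, one_mul]
      exact h
    have h2 := perm_of_mk_one h1
    have h3 := Cfsg.Agent.H729.M24Deg.o11
    rw [h2, orderOf_one] at h3
    omega

theorem exists_dod : ∃ c : golayCode, wt c = 12 ∧ IsConj t (mk (signCo0 c)) := by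
  have h0 : permCo0 (el cT) * permCo0 (el cT) = 1 := by rw [← map_mul, TT, map_one]
  obtain ⟨g, c, hg⟩ := Cfsg.Agent.CoOneType.ClosingCo1.a1 _ h0
  refine ⟨c, ?_, isConj_mk g hg⟩
  have h1 := Cfsg.Agent.BpSpor.Co2.Five.tr8_sign c
  rw [← hg, tr8_conj, Cfsg.Agent.H419.LeechFix.tr8_perm, fixT] at h1
  push_cast at h1
  omega

theorem not_seven_t : ¬ 7 ∣ Nat.card (centralizer ({t} : Set Spor.Co1)) := by
  obtain ⟨c, hc, h⟩ := exists_dod
  intro h7
  exact not_seven hc (isConj_dvd h h7)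

/-- **`Co1` has a character of 7-defect zero.** -/
theorem hasDZ : HasDZ 7 Spor.Co1 := by
  have hfin : Finite Spor.Co1 := Nat.finite_of_card_ne_zero (by rw [Cfsg.Agent.S0399.result.2]; norm_num)
  have : Fact (Nat.Prime 11) := ⟨by norm_num⟩
  refine hasDZ_of_inverts (q := 11) (by norm_num) (by norm_num) (by norm_num) tt not_seven_t order_y tyt ?_
  exact lt_of_le_of_lt (Cfsg.Agent.H546.MElevenCo.card_cent order_y) (by norm_num)

end Cfsg.Agent.H488.PSq.Co1Seven
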