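import Cfsg.Agent.Characters.ClassMul
import Cfsg.Agent.Characters.DegreeBounds
import Cfsg.Agent.Characters.GaloisBasic
import Cfsg.Agent.CharactersDeep.ModCongr
import Cfsg.Agent.CharactersDeep.AChar
import Cfsg.Agent.Blocks.Knorr
import Cfsg.Agent.H665.NoPQ

/-!
# Characters of defect zero from class multiplication coefficients (helper488, S4844)

* `hasDZ_of_not_dvd` : `p ∤ #{(a, b) | x^a y^b = z}` ⇒ `HasDZ p G`
* `hasDZ_of_pairs` : `p ∤ |C(x)|`, `p ∤ |C(y)|`, `p ∤ #{(u, v) ∈ x^G × y^G | u v = z}` ⇒ `HasDZ p G`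
* `hasDZ_of_inverts` : an involution `t` with `p ∤ |C(t)|` inverts an element `g` of odd prime order `q ≠ p` with
  `|C(g)| < p q` ⇒ `HasDZ p G`
-/

set_option autoImplicit false

namespace Cfsg.Agent.H488.PSq

open Cfsg Cfsg.Agent.H665.NoPQ Cfsg.Agent.Characters.Core Cfsg.Agent.Characters.ClassMul
open scoped ComplexConjugate

variable {G : Type*} [Group G] [Finite G]

/-- The class multiplication coefficients are divisible by `p` if there is no character of defect zero. -/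
theorem hasDZ_of_not_dvd {p : ℕ} (hp : p.Prime) (x y z : G)
    (h : ¬ p ∣ Nat.card {q : G × G // q.1 * x * q.1⁻¹ * (q.2 * y * q.2⁻¹) = z}) : HasDZ p G := by
  classical
  by_contra hno
  apply h
  have := finite_irr (G := G)
  have := Fintype.ofFinite (IrrCharacter G)
  have key : ∀ χ : IrrCharacter G, ∃ m : ℕ, Nat.card G = p * m * charDegree (χ : G → ℂ) := by
    intro χ
    obtain ⟨a, ha⟩ := Cfsg.Agent.Blocks.Knorr.charDegree_dvd χ.2
    have h0 : charDegree (χ : G → ℂ) ≠ 0 := (Cfsg.Agent.Blocks.Basic.charDegree_pos χ.2).ne'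
    have ha0 : a ≠ 0 := by
      rintro rfl
      rw [mul_zero] at ha
      exact Nat.card_pos.ne' ha
    have hpa : p ∣ a := by
      by_contra hpa
      apply hno
      refine ⟨χ, ?_⟩
      rw [ha, Nat.factorization_mul h0 ha0, Finsupp.add_apply, Nat.factorization_eq_zero_of_not_dvd hpa, add_zero]
    obtain ⟨m, rfl⟩ := hpa
    exact ⟨m, by rw [ha]; ring⟩
  choose m hm using key
  have h1 := card_conj_mul_conj x y z
  have hp0 : (p : ℂ) ≠ 0 := by exact_mod_cast hp.ne_zero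
  apply Cfsg.Agent.Characters.DegreeBounds.nat_dvd_of_isIntegral_div hp.ne_zero
  rw [h1]
  have h2 : (Nat.card G : ℂ) * ∑ χ : IrrCharacter G,
      (χ : G → ℂ) x * (χ : G → ℂ) y * conj ((χ : G → ℂ) z) / (χ : G → ℂ) 1 =
      p * ∑ χ : IrrCharacter G, (m χ : ℂ) * ((χ : G → ℂ) x * (χ : G → ℂ) y * conj ((χ : G → ℂ) z)) := by
    rw [Finset.mul_sum, Finset.mul_sum]
    refine Finset.sum_congr rfl fun χ _ => ?_
    have h3 := Cfsg.Agent.Blocks.Basic.irr_one_eq_charDegree χ.2
    have h4 : (charDegree (χ : G → ℂ) : ℂ) ≠ 0 := by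
      exact_mod_cast (Cfsg.Agent.Blocks.Basic.charDegree_pos χ.2).ne'
    rw [h3, hm χ]
    push_cast
    field_simp
  rw [h2, mul_div_cancel_left₀ _ hp0]
  apply IsIntegral.sum
  intro χ _
  have h5 : ∀ g : G, IsIntegral ℤ ((χ : G → ℂ) g) := fun g =>
    Cfsg.Agent.CharactersDeep.ModCongr.isIntegral_irr χ.2 g
  refine IsIntegral.mul (by exact_mod_cast (isIntegral_algebraMap (R := ℤ) (A := ℂ) (x := (m χ : ℤ)))) (IsIntegral.mul (IsIntegral.mul (h5 x) (h5 y)) ?_)
  exact Cfsg.Agent.CharactersDeep.AChar.isIntegral_conj (h5 z)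

/-- The version with pairs of elements. -/
theorem hasDZ_of_pairs {p : ℕ} (hp : p.Prime) (x y z : G)
    (hx : ¬ p ∣ Nat.card (Subgroup.centralizer ({x} : Set G)))
    (hy : ¬ p ∣ Nat.card (Subgroup.centralizer ({y} : Set G)))
    (h : ¬ p ∣ Nat.card {q : G × G // IsConj x q.1 ∧ IsConj y q.2 ∧ q.1 * q.2 = z}) : HasDZ p G := by
  apply hasDZ_of_not_dvd hp x y z
  rw [card_conj_mul_conj_eq, hp.dvd_mul, hp.dvd_mul]
  rintro ((h1 | h1) | h1)
  · exact hx h1
  · exact hy h1
  · exact h h1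

/-- The pairs of conjugates of `t` with product `g`. -/
abbrev PP (t g : G) : Type _ := {q : G × G // IsConj t q.1 ∧ IsConj t q.2 ∧ q.1 * q.2 = g}

/-- conjugation by the powers of `g` -/
instance act (t g : G) : MulAction (Subgroup.zpowers g) (PP t g) where
  smul c x := ⟨((c : G) * x.1.1 * (c : G)⁻¹, (c : G) * x.1.2 * (c : G)⁻¹),
    x.2.1.trans (isConj_iff.2 ⟨c, rfl⟩), x.2.2.1.trans (isConj_iff.2 ⟨c, rfl⟩), by
      have h1 := x.2.2.2
      obtain ⟨k, hk⟩ := Subgroup.mem_zpowers_iff.1 c.2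
      have h2 : (c : G) * g = g * (c : G) := by
        rw [← hk]
        exact ((Commute.refl g).zpow_left k).eq
      calc (c : G) * x.1.1 * (c : G)⁻¹ * ((c : G) * x.1.2 * (c : G)⁻¹) = (c : G) * (x.1.1 * x.1.2) * (c : G)⁻¹ := by group
        _ = g := by rw [h1, h2, mul_inv_cancel_right]⟩
  one_smul x := by
    apply Subtype.ext
    apply Prod.ext
    · show (1 : G) * x.1.1 * (1 : G)⁻¹ = _
      group
    · show (1 : G) * x.1.2 * (1 : G)⁻¹ = _
      group
  mul_smul c d x := by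
    apply Subtype.ext
    apply Prod.ext
    · show ((c : G) * (d : G)) * x.1.1 * ((c : G) * (d : G))⁻¹ = (c : G) * ((d : G) * x.1.1 * (d : G)⁻¹) * (c : G)⁻¹
      group
    · show ((c : G) * (d : G)) * x.1.2 * ((c : G) * (d : G))⁻¹ = (c : G) * ((d : G) * x.1.2 * (d : G)⁻¹) * (c : G)⁻¹
      group

omit [Finite G] in
theorem smul_fst (t g : G) (c : Subgroup.zpowers g) (x : PP t g) : (c • x).1.1 = (c : G) * x.1.1 * (c : G)⁻¹ := rfl

omit [Finite G] in
theorem inverts_aux {u v g : G} (h1 : u * u = 1) (h2 : v * v = 1) (h3 : u * v = g) : u * g * u⁻¹ = g⁻¹ := by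
  have h4 : u⁻¹ = u := inv_eq_of_mul_eq_one_left h1
  have h5 : v⁻¹ = v := inv_eq_of_mul_eq_one_left h2
  rw [← h3, mul_inv_rev, h4, h5, ← mul_assoc, h1, one_mul]

omit [Finite G] in
theorem inverts {t g : G} (ht : t * t = 1) (x : PP t g) : x.1.1 * g * x.1.1⁻¹ = g⁻¹ := by
  have h0 : ∀ u : G, IsConj t u → u * u = 1 := by
    intro u hu
    obtain ⟨c, rfl⟩ := isConj_iff.1 hu
    calc c * t * c⁻¹ * (c * t * c⁻¹) = c * (t * t) * c⁻¹ := by group
      _ = 1 := by rw [ht]; group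
  exact inverts_aux (h0 _ x.2.1) (h0 _ x.2.2.1) x.2.2.2

theorem card_le {t g : G} (ht : t * t = 1) : Nat.card (PP t g) ≤ Nat.card (Subgroup.centralizer ({g} : Set G)) := by
  rcases isEmpty_or_nonempty (PP t g) with h | ⟨⟨x₀⟩⟩
  · rw [Nat.card_of_isEmpty]
    exact Nat.zero_le _
  · refine Nat.card_le_card_of_injective (fun x => ⟨x₀.1.1⁻¹ * x.1.1, ?_⟩) ?_
    · rw [Subgroup.mem_centralizer_singleton_iff]
      have h1 := inverts ht x₀
      have h2 := inverts ht x
      have h3 : x₀.1.1⁻¹ * g⁻¹ * x₀.1.1 = g := by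
        rw [← h1]; group
      have h4 : x.1.1 * g = g⁻¹ * x.1.1 := by
        rw [← h2]; group
      calc x₀.1.1⁻¹ * x.1.1 * g = x₀.1.1⁻¹ * (x.1.1 * g) := by group
        _ = (x₀.1.1⁻¹ * g⁻¹ * x₀.1.1) * (x₀.1.1⁻¹ * x.1.1) := by rw [h4]; group
        _ = g * (x₀.1.1⁻¹ * x.1.1) := by rw [h3]
    · intro x y hxy
      have h1 : x.1.1 = y.1.1 := mul_left_cancel (congrArg Subtype.val hxy)
      apply Subtype.ext
      apply Prod.ext h1
      have h2 : x.1.1 * x.1.2 = y.1.1 * y.1.2 := x.2.2.2.trans y.2.2.2.symm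
      rw [h1] at h2
      exact mul_left_cancel h2

/-- **The criterion.** -/
theorem hasDZ_of_inverts {p q : ℕ} (hp : p.Prime) [hq : Fact q.Prime] (hq2 : q ≠ 2) (hpq : p ≠ q) {t g : G}
    (ht : t * t = 1) (htp : ¬ p ∣ Nat.card (Subgroup.centralizer ({t} : Set G))) (hg : orderOf g = q)
    (hinv : t * g * t⁻¹ = g⁻¹) (hc : Nat.card (Subgroup.centralizer ({g} : Set G)) < p * q) : HasDZ p G := by
  apply hasDZ_of_pairs hp t t g htp htp
  intro hdvd
  have hle : Nat.card (PP t g) ≤ _ := card_le ht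
  have hti : t⁻¹ = t := inv_eq_of_mul_eq_one_left ht
  -- the set is not empty
  have hpos : 0 < Nat.card (PP t g) := by
    have h0 : Nonempty (PP t g) := by
      refine ⟨⟨(t, t⁻¹ * g), IsConj.refl t, ?_, by group⟩⟩
      obtain ⟨k, hk⟩ := hq.out.eq_two_or_odd'.resolve_left hq2
      rw [isConj_iff]
      refine ⟨g ^ k, ?_⟩
      have h1 : t⁻¹ * g ^ k * t = g⁻¹ ^ k := by
        have h2 := congrArg (fun a => a ^ k) hinv
        simp only [conj_pow] at h2
        rw [hti] at h2 ⊢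
        exact h2
      have h3 : g ^ q = 1 := by rw [← hg, pow_orderOf_eq_one]
      have h4 : g⁻¹ ^ k * (g ^ k)⁻¹ = g := by
        rw [inv_pow, ← mul_inv_rev, ← pow_add, inv_eq_iff_eq_inv, eq_inv_iff_mul_eq_one, ← pow_succ]
        rw [← h3]
        congr 1
        omega
      calc g ^ k * t * (g ^ k)⁻¹ = t * (t⁻¹ * g ^ k * t) * (g ^ k)⁻¹ := by group
        _ = t * (g⁻¹ ^ k * (g ^ k)⁻¹) := by rw [h1]; group
        _ = t⁻¹ * g := by rw [h4, hti]
    exact Nat.card_pos
  -- `q` divides the number of pairs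
  have hqd : q ∣ Nat.card (PP t g) := by
    have hP : IsPGroup q (Subgroup.zpowers g) := by
      apply IsPGroup.of_card (n := 1)
      rw [Nat.card_zpowers, hg, pow_one]
    have h1 := hP.card_modEq_card_fixedPoints (PP t g)
    have h2 : IsEmpty (MulAction.fixedPoints (Subgroup.zpowers g) (PP t g)) := by
      refine ⟨fun x => ?_⟩
      have h3 := x.2 ⟨g, Subgroup.mem_zpowers g⟩
      have h4 : g * (x : PP t g).1.1 * g⁻¹ = (x : PP t g).1.1 := by
        have := congrArg (fun a : PP t g => a.1.1) h3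
        exact this
      have h5 := inverts ht (x : PP t g)
      have h6 : (x : PP t g).1.1 * g * (x : PP t g).1.1⁻¹ = g := by
        have h7 : g * (x : PP t g).1.1 = (x : PP t g).1.1 * g := by
          rw [mul_inv_eq_iff_eq_mul] at h4
          exact h4
        rw [← h7]; group
      rw [h6] at h5
      have h8 : g ^ 2 = 1 := by
        rw [pow_two]
        nth_rewrite 2 [h5]
        exact mul_inv_cancel g
      have h9 := orderOf_dvd_of_pow_eq_one h8
      rw [hg] at h9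
      exact hq2 ((Nat.prime_dvd_prime_iff_eq hq.out Nat.prime_two).1 h9)
    rw [Nat.card_of_isEmpty (α := MulAction.fixedPoints (Subgroup.zpowers g) (PP t g))] at h1
    exact (Nat.modEq_zero_iff_dvd).1 h1
  have hcop : Nat.Coprime p q := (Nat.coprime_primes hp hq.out).2 hpq
  have h1 := Nat.le_of_dvd hpos (hcop.mul_dvd_of_dvd_of_dvd hdvd hqd)
  omega

end Cfsg.Agent.H488.PSq
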